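import Cfsg.Agent.PermGroups.Modules
import Mathlib

/-!
Weights of an abelian normal subgroup of odd order in a representation over the field with two
elements, after extending the scalars to an algebraic closure.
-/

set_option autoImplicit false

noncomputable section

namespace Cfsg.Agent.OddWeights

open TensorProduct

universe u v

instance : Fact (Nat.Prime 2) := ⟨Nat.prime_two⟩

/-- The algebraically closed field of characteristic two. -/
abbrev K : Type := AlgebraicClosure (ZMod 2)

instance : CharP K 2 := charP_of_injective_algebraMap (algebraMap (ZMod 2) K).injective 2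

theorem natCast_odd {n : ℕ} (hn : Odd n) : (n : K) = 1 := by
  obtain ⟨m, rfl⟩ := hn
  push_cast
  simp [CharTwo.two_eq_zero]

variable {S : Type u} [Group S] {E : Type v} [AddCommGroup E] [Module (ZMod 2) E]
  (ρ : Representation (ZMod 2) S E)

/-- The extension of scalars. -/
def ext : Representation K S (K ⊗[ZMod 2] E) :=
  (Module.End.baseChangeHom (ZMod 2) K E).toMonoidHom.comp ρ

theorem ext_tmul (s : S) (c : K) (e : E) : ext ρ s (c ⊗ₜ[ZMod 2] e) = c ⊗ₜ[ZMod 2] ρ s e := rfl

theorem ext_eq_zero_of_sum {ι : Type*} (t : Finset ι) (f : ι → S) (h : ∀ e : E, ∑ i ∈ t, ρ (f i) e = 0)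
    (w : K ⊗[ZMod 2] E) : ∑ i ∈ t, ext ρ (f i) w = 0 := by
  induction w using TensorProduct.induction_on with
  | zero => simp
  | tmul c e => simp only [ext_tmul, ← TensorProduct.tmul_sum, h, TensorProduct.tmul_zero]
  | add a b ha hb => simp only [map_add, Finset.sum_add_distrib, ha, hb, add_zero]

/-- Vectors fixed by a subset after extension come from fixed vectors. -/
theorem finrank_fixed_le [Finite E] (T : Set S) (W : Submodule (ZMod 2) E)
    (hW : ∀ e, e ∈ W ↔ ∀ s ∈ T, ρ s e = e) {ι : Type*} [Fintype ι] (v : ι → K ⊗[ZMod 2] E)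
    (hv : ∀ i, ∀ s ∈ T, ext ρ s (v i) = v i) (hli : LinearIndependent K v) :
    Fintype.card ι ≤ Module.finrank (ZMod 2) W := by
  classical
  haveI : Module.Finite (ZMod 2) E := Module.Finite.of_finite
  let b := Module.Free.chooseBasis (ZMod 2) K
  let e := TensorProduct.equivFinsuppOfBasisLeft (N := E) b
  have hcomm : ∀ s w i, e (ext ρ s w) i = ρ s (e w i) := by
    intro s w i
    induction w using TensorProduct.induction_on with
    | zero => simp
    | tmul c x => simp [ext_tmul, e, TensorProduct.equivFinsuppOfBasisLeft_apply_tmul_apply]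
    | add a c ha hc => simp [ha, hc]
  set R := LinearMap.range (W.subtype.baseChange K) with hR
  have hmem : ∀ i, v i ∈ R := by
    intro i
    have h1 : v i = e.symm (e (v i)) := (e.symm_apply_apply _).symm
    rw [h1, TensorProduct.equivFinsuppOfBasisLeft_symm_apply, Finsupp.sum]
    refine Submodule.sum_mem _ fun j _ => ?_
    have hj : e (v i) j ∈ W := (hW _).2 fun s hs => by rw [← hcomm, hv i s hs]
    exact ⟨b j ⊗ₜ[ZMod 2] ⟨_, hj⟩, by rw [LinearMap.baseChange_tmul]; rfl⟩
  let v' : ι → R := fun i => ⟨v i, hmem i⟩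
  have hli' : LinearIndependent K v' := LinearIndependent.of_comp R.subtype hli
  refine hli'.fintype_card_le_finrank.trans ((LinearMap.finrank_range_le _).trans ?_)
  rw [Module.finrank_baseChange]

/-- An element fixing all fixed vectors of `T` does so after extension. -/
theorem ext_eq_self (T : Set S) (s₀ : S) (h : ∀ e, (∀ s ∈ T, ρ s e = e) → ρ s₀ e = e)
    {w : K ⊗[ZMod 2] E} (hw : ∀ s ∈ T, ext ρ s w = w) : ext ρ s₀ w = w := by
  classical
  let b := Module.Free.chooseBasis (ZMod 2) K
  let e := TensorProduct.equivFinsuppOfBasisLeft (N := E) b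
  have hcomm : ∀ s w i, e (ext ρ s w) i = ρ s (e w i) := by
    intro s w i
    induction w using TensorProduct.induction_on with
    | zero => simp
    | tmul c x => simp [ext_tmul, e, TensorProduct.equivFinsuppOfBasisLeft_apply_tmul_apply]
    | add a c ha hc => simp [ha, hc]
  refine e.injective (Finsupp.ext fun i => ?_)
  rw [hcomm]
  exact h _ fun s hs => by rw [← hcomm, hw s hs]

variable (P : Subgroup S)

/-- The weight space of a character. -/
def weight (μ : P →* Kˣ) : Submodule K (K ⊗[ZMod 2] E) where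
  carrier := {w | ∀ x : P, ext ρ x w = (μ x : K) • w}
  zero_mem' x := by simp
  add_mem' {a c} ha hc x := by rw [map_add, ha x, hc x, smul_add]
  smul_mem' r {a} ha x := by rw [map_smul, ha x, smul_comm]

variable [Fintype P]

/-- The projection on a weight space. -/
def proj (μ : P →* Kˣ) : Module.End K (K ⊗[ZMod 2] E) :=
  ∑ x : P, ((μ x⁻¹ : Kˣ) : K) • ext ρ x

theorem proj_mem (μ : P →* Kˣ) (w : K ⊗[ZMod 2] E) : proj ρ P μ w ∈ weight ρ P μ := by
  intro y
  simp only [proj, LinearMap.sum_apply, LinearMap.smul_apply, map_sum, map_smul, Finset.smul_sum,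
    smul_smul]
  refine Fintype.sum_equiv (Equiv.mulLeft y) _ _ fun x => ?_
  rw [Equiv.coe_mulLeft, ← Module.End.mul_apply, ← map_mul, Subgroup.coe_mul]
  congr 1
  rw [← Units.val_mul, ← map_mul, mul_inv_rev]
  congr 1
  rw [map_mul, map_mul, mul_left_comm, ← map_mul μ y, mul_inv_cancel, map_one, mul_one]

theorem proj_of_mem (hodd : Odd (Nat.card P)) {μ ν : P →* Kˣ} [Decidable (μ = ν)]
    {w : K ⊗[ZMod 2] E} (hw : w ∈ weight ρ P μ) :
    proj ρ P ν w = if μ = ν then w else 0 := by
  classical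
  simp only [proj, LinearMap.sum_apply, LinearMap.smul_apply]
  rw [Finset.sum_congr rfl fun x _ => by rw [hw x, smul_smul], ← Finset.sum_smul]
  split_ifs with h
  · subst h
    simp only [← Units.val_mul, ← map_mul, inv_mul_cancel, map_one, Units.val_one, Finset.sum_const,
      nsmul_one, Finset.card_univ]
    rw [← Nat.card_eq_fintype_card, natCast_odd hodd, one_smul]
  · have hne : (Units.coeHom K).comp (μ / ν) ≠ 1 := fun e => h (MonoidHom.ext fun x => by
      have h1 : ((μ x / ν x : Kˣ) : K) = 1 := DFunLike.congr_fun e x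
      exact div_eq_one.1 (Units.ext h1))
    have hs := sum_hom_units_eq_zero _ hne
    rw [show (∑ x : P, ((ν x⁻¹ : Kˣ) : K) * (μ x : K)) = ∑ x : P, ((Units.coeHom K).comp (μ / ν)) x
      from Finset.sum_congr rfl fun x _ => by
        simp [map_inv, div_eq_mul_inv, mul_comm, Units.val_mul, Units.val_inv_eq_inv_val], hs, zero_smul]

/-- The union of the weight spaces of a set of characters. -/
def span (O : Finset (P →* Kˣ)) : Submodule K (K ⊗[ZMod 2] E) := ⨆ μ ∈ O, weight ρ P μ

theorem proj_span (hodd : Odd (Nat.card P)) (O : Finset (P →* Kˣ)) {w : K ⊗[ZMod 2] E}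
    (hw : w ∈ span ρ P O) :
    ∑ μ ∈ O, proj ρ P μ w = w ∧ ∀ ν, ν ∉ O → proj ρ P ν w = 0 := by
  classical
  rw [span, iSup_subtype'] at hw
  induction hw using Submodule.iSup_induction' with
  | mem μ w hw =>
    constructor
    · rw [Finset.sum_eq_single μ.1 (fun ν _ hne => by rw [proj_of_mem ρ P hodd hw, if_neg hne.symm])
        (fun h => absurd μ.2 h), proj_of_mem ρ P hodd hw, if_pos rfl]
    · intro ν hν
      rw [proj_of_mem ρ P hodd hw, if_neg fun e : μ.1 = ν => hν (e ▸ μ.2)]
  | zero => simp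
  | add a c _ _ ha hc =>
    refine ⟨?_, fun ν hν => ?_⟩
    · simp only [map_add, Finset.sum_add_distrib, ha.1, hc.1]
    · rw [map_add, ha.2 ν hν, hc.2 ν hν, add_zero]

variable [P.Normal]

/-- The conjugation action on characters. -/
def act (g : S) (μ : P →* Kˣ) : P →* Kˣ := μ.comp (MulAut.conjNormal g⁻¹ : MulAut P).toMonoidHom

theorem act_mul (g h : S) (μ : P →* Kˣ) : act P (g * h) μ = act P g (act P h μ) := by
  refine MonoidHom.ext fun x => ?_
  simp only [act, MonoidHom.comp_apply, mul_inv_rev, map_mul, MulEquiv.coe_toMonoidHom, MulAut.mul_apply]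

theorem act_one (μ : P →* Kˣ) : act P 1 μ = μ := by
  refine MonoidHom.ext fun x => ?_
  simp [act]

theorem ext_proj (g : S) (μ : P →* Kˣ) (w : K ⊗[ZMod 2] E) :
    ext ρ g (proj ρ P μ w) = proj ρ P (act P g μ) (ext ρ g w) := by
  simp only [proj, LinearMap.sum_apply, LinearMap.smul_apply, map_sum, map_smul]
  refine Fintype.sum_equiv (MulAut.conjNormal g : MulAut P).toEquiv _ _ fun x => ?_
  simp only [MulEquiv.toEquiv_eq_coe, MulEquiv.coe_toEquiv]
  rw [← Module.End.mul_apply, ← Module.End.mul_apply, ← map_mul, ← map_mul, MulAut.conjNormal_apply,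
    inv_mul_cancel_right]
  congr 2
  rw [act, MonoidHom.comp_apply]
  congr 1
  rw [MulEquiv.coe_toMonoidHom, ← map_inv (MulAut.conjNormal g : MulAut P), ← MulAut.mul_apply,
    ← map_mul, inv_mul_cancel, map_one, MulAut.one_apply]

theorem ext_mem_weight (g : S) {μ : P →* Kˣ} {w : K ⊗[ZMod 2] E} (hw : w ∈ weight ρ P μ) :
    ext ρ g w ∈ weight ρ P (act P g μ) := by
  intro x
  have hx := hw (MulAut.conjNormal g⁻¹ x)
  rw [act, MonoidHom.comp_apply, MulEquiv.coe_toMonoidHom, ← map_smul, ← hx,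
    ← Module.End.mul_apply, ← Module.End.mul_apply, ← map_mul, ← map_mul, MulAut.conjNormal_apply]
  congr 2
  group

/-- A `2`-group fixes a nonzero vector over each of its orbits of weights. -/
theorem exists_fixed [Finite S] (T : Subgroup S) (hT : IsPGroup 2 T) (O : Finset (P →* Kˣ))
    (hO : ∀ g ∈ T, ∀ μ ∈ O, act P g μ ∈ O) {μ : P →* Kˣ} (hμ : μ ∈ O) (hW : weight ρ P μ ≠ ⊥) :
    ∃ w ∈ span ρ P O, w ≠ 0 ∧ ∀ g ∈ T, ext ρ g w = w := by
  have hinv : ∀ g : T, ∀ w ∈ span ρ P O, ext ρ (g : S) w ∈ span ρ P O := by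
    intro g w hw
    have hle : span ρ P O ≤ (span ρ P O).comap (ext ρ (g : S)) :=
      iSup₂_le fun ν hν y hy => Submodule.mem_comap.2
        ((le_iSup₂ (f := fun σ _ => weight ρ P σ) (act P g ν) (hO g g.2 ν hν)) (ext_mem_weight ρ P g hy))
    exact hle hw
  have hne : span ρ P O ≠ ⊥ := fun e =>
    hW (le_bot_iff.1 (e ▸ le_iSup₂ (f := fun σ _ => weight ρ P σ) μ hμ))
  have hTT : IsPGroup 2 (⊤ : Subgroup T) := hT.of_equiv Subgroup.topEquiv.symm
  obtain ⟨w, hw, hw0, hfix⟩ := PermGroups.exists_fixed_of_isPGroup hTT ((ext ρ).comp T.subtype)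
    (span ρ P O) hinv hne
  exact ⟨w, hw, hw0, fun g hg => hfix ⟨g, hg⟩ (Subgroup.mem_top _)⟩

/-- A nontrivial weight exists when only zero is fixed. -/
theorem exists_weight [Finite E] [Nontrivial E] (hodd : Odd (Nat.card P))
    (hcomm : ∀ x y : P, x * y = y * x) (hfix : ∀ e : E, (∀ x : P, ρ x e = e) → e = 0) :
    ∃ μ : P →* Kˣ, μ ≠ 1 ∧ weight ρ P μ ≠ ⊥ := by
  classical
  haveI : Module.Finite (ZMod 2) E := Module.Finite.of_finite
  haveI : Nontrivial (K ⊗[ZMod 2] E) := Module.nontrivial_of_finrank_pos (R := K) (by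
    rw [Module.finrank_baseChange]; exact Module.finrank_pos)
  obtain ⟨U, ⟨hU0, hUinv⟩, hUmin⟩ := wellFounded_lt.has_min
    {U : Submodule K (K ⊗[ZMod 2] E) | U ≠ ⊥ ∧ ∀ x : P, ∀ w ∈ U, ext ρ x w ∈ U}
    ⟨⊤, ⟨top_ne_bot, fun _ _ _ => Submodule.mem_top⟩⟩
  obtain ⟨v, hv, hv0⟩ := U.ne_bot_iff.1 hU0
  have hscal : ∀ x : P, ∃ c : K, ext ρ x v = c • v := by
    intro x
    haveI : Nontrivial U := Submodule.nontrivial_iff_ne_bot.2 hU0
    let g : Module.End K U := (ext ρ (x : S)).restrict (hUinv x)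
    obtain ⟨c, hc⟩ := Module.End.exists_eigenvalue (K := K) (V := U) g
    obtain ⟨y, hy⟩ := hc.exists_hasEigenvector
    set U' := U ⊓ Module.End.eigenspace (ext ρ x) c
    have hy' : (y : K ⊗[ZMod 2] E) ∈ U' :=
      ⟨y.2, Module.End.mem_eigenspace_iff.2 (congrArg Subtype.val hy.apply_eq_smul)⟩
    have hU' : U' = U := (eq_or_lt_of_le inf_le_left).resolve_right fun hlt =>
      hUmin U' ⟨fun e => hy.2 (Subtype.ext ((Submodule.mem_bot K).1 (e ▸ hy'))), fun z w hw =>
        ⟨hUinv z w hw.1, Module.End.mem_eigenspace_iff.2 (by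
          rw [← Module.End.mul_apply, ← map_mul, ← Subgroup.coe_mul, hcomm x z, Subgroup.coe_mul,
            map_mul, Module.End.mul_apply, Module.End.mem_eigenspace_iff.1 hw.2, map_smul])⟩⟩ hlt
    exact ⟨c, Module.End.mem_eigenspace_iff.1 (hU'.ge hv).2⟩
  choose c hc using hscal
  let f : P →* K :=
    { toFun := c
      map_one' := smul_left_injective K hv0 (by
        show c 1 • v = (1 : K) • v
        rw [one_smul, ← hc, OneMemClass.coe_one, map_one]; rfl)
      map_mul' := fun x y => smul_left_injective K hv0 (by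
        show c (x * y) • v = (c x * c y) • v
        rw [← hc, Subgroup.coe_mul, map_mul, Module.End.mul_apply, hc, map_smul, hc, smul_smul, mul_comm]) }
  refine ⟨f.toHomUnits, fun e => hv0 ?_, (Submodule.ne_bot_iff _).2 ⟨v, fun x => hc x, hv0⟩⟩
  have hfixv : ∀ x : P, ext ρ x v = v := fun x => by
    rw [hc x, show c x = ((f.toHomUnits x : Kˣ) : K) from rfl, e, MonoidHom.one_apply, Units.val_one, one_smul]
  have h := ext_eq_zero_of_sum ρ (Finset.univ : Finset P) (fun x => (x : S)) (fun e' => hfix _ fun y => by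
    rw [map_sum]
    exact Fintype.sum_equiv (Equiv.mulLeft y) _ _ fun x => by
      rw [Equiv.coe_mulLeft, Subgroup.coe_mul, map_mul]; rfl) v
  rw [Finset.sum_congr rfl fun x _ => hfixv x, Finset.sum_const, Finset.card_univ,
    ← Nat.card_eq_fintype_card, ← Nat.cast_smul_eq_nsmul K, natCast_odd hodd, one_smul] at h
  exact h

end Cfsg.Agent.OddWeights
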